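import Mathlib
import Groth.Agent.LinType.Basic
import Groth.Agent.RegLoc6.Seq

/-!
# The order valuation of a regular local ring and its residue field
-/

set_option autoImplicit false
set_option linter.style.haveILetI false
set_option linter.unusedSectionVars false

universe u

open MvPolynomial IsLocalRing

namespace Groth.Agent.Ega43Dvr

noncomputable section

variable {A : Type u} [CommRing A] [IsLocalRing A] {d : ℕ}

local notation "k" => ResidueField A
local notation "S" => MvPolynomial (Fin d) (ResidueField A)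
local notation "F" => FractionRing (MvPolynomial (Fin d) (ResidueField A))

/-- Quasi-regular generators of the maximal ideal. -/
structure Sys (A : Type u) [CommRing A] [IsLocalRing A] (d : ℕ) where
  x : Fin d → A
  span_eq : Ideal.span (Set.range x) = maximalIdeal A
  sep : ∀ a : A, a ≠ 0 → ∃ n, a ∈ maximalIdeal A ^ n ∧ a ∉ maximalIdeal A ^ (n + 1)
  qreg : ∀ (n : ℕ) (P : MvPolynomial (Fin d) A), P.IsHomogeneous n →
    eval x P ∈ maximalIdeal A ^ (n + 1) → ∀ e, P.coeff e ∈ maximalIdeal A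

variable (sys : Sys A d)

theorem exists_rep {n : ℕ} {a : A} (ha : a ∈ maximalIdeal A ^ n) :
    ∃ P : MvPolynomial (Fin d) A, P.IsHomogeneous n ∧ eval sys.x P = a := by
  induction n generalizing a with
  | zero => exact ⟨C a, isHomogeneous_C _ _, eval_C a⟩
  | succ n ih =>
    rw [pow_succ] at ha
    refine Submodule.mul_induction_on ha ?_ ?_
    · intro u hu v hv
      obtain ⟨P, hP, rfl⟩ := ih hu
      rw [← sys.span_eq, Ideal.mem_span_range_iff_exists_fun] at hv
      obtain ⟨c, rfl⟩ := hv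
      refine ⟨P * ∑ i, C (c i) * X i, hP.mul (IsHomogeneous.sum _ _ _ fun i _ =>
        IsHomogeneous.C_mul (isHomogeneous_X A i) _), ?_⟩
      simp [map_sum]
    · rintro a b ⟨P, hP, rfl⟩ ⟨Q, hQ, rfl⟩
      exact ⟨P + Q, hP.add hQ, map_add _ _ _⟩

theorem eval_mem {n : ℕ} {P : MvPolynomial (Fin d) A} (hP : P.IsHomogeneous n) (I : Ideal A)
    (hI : ∀ e, P.coeff e ∈ I) : eval sys.x P ∈ I * maximalIdeal A ^ n := by
  rw [eval_eq']
  refine Ideal.sum_mem _ fun e he => Ideal.mul_mem_mul (hI e) ?_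
  have hdeg : ∑ i, e i = n := by
    have h := hP (mem_support_iff.mp he)
    rw [Finsupp.weight_apply, Finsupp.sum_fintype] at h
    · simpa using h
    · simp
  rw [← hdeg, ← Finset.prod_pow_eq_pow_sum]
  exact Ideal.prod_mem_prod fun i _ => Ideal.pow_mem_pow (sys.span_eq ▸ Ideal.subset_span ⟨i, rfl⟩) _

theorem eq_zero_of_mem_succ {n : ℕ} {P : MvPolynomial (Fin d) A} (hP : P.IsHomogeneous n)
    (h : eval sys.x P ∈ maximalIdeal A ^ (n + 1)) : MvPolynomial.map (residue A) P = 0 := by
  ext e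
  rw [coeff_map, coeff_zero]
  exact (residue_eq_zero_iff _).mpr (sys.qreg n P hP h e)

/-- The form of degree `n` of an element of `𝔪ⁿ`. -/
def form (n : ℕ) (a : A) : S := by
  classical
  exact if h : a ∈ maximalIdeal A ^ n then MvPolynomial.map (residue A) (exists_rep sys h).choose else 0

theorem form_eq {n : ℕ} {P : MvPolynomial (Fin d) A} (hP : P.IsHomogeneous n) {a : A}
    (ha : eval sys.x P = a) : form sys n a = MvPolynomial.map (residue A) P := by
  have hm : a ∈ maximalIdeal A ^ n := by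
    rw [← ha]
    have := eval_mem sys hP ⊤ (fun _ => Submodule.mem_top)
    rwa [Ideal.top_mul] at this
  rw [form, dif_pos hm]
  obtain ⟨hQ, hQa⟩ := (exists_rep sys hm).choose_spec
  rw [← sub_eq_zero, ← map_sub]
  refine eq_zero_of_mem_succ sys (hQ.sub hP) ?_
  rw [map_sub, hQa, ha, sub_self]
  exact Submodule.zero_mem _

theorem form_homogeneous {n : ℕ} {a : A} (h : a ∈ maximalIdeal A ^ n) :
    (form sys n a).IsHomogeneous n := by
  obtain ⟨P, hP, hPa⟩ := exists_rep sys h
  rw [form_eq sys hP hPa]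
  exact hP.map _

theorem form_mul {n p : ℕ} {a b : A} (ha : a ∈ maximalIdeal A ^ n) (hb : b ∈ maximalIdeal A ^ p) :
    form sys (n + p) (a * b) = form sys n a * form sys p b := by
  obtain ⟨P, hP, hPa⟩ := exists_rep sys ha
  obtain ⟨Q, hQ, hQb⟩ := exists_rep sys hb
  rw [form_eq sys hP hPa, form_eq sys hQ hQb, ← map_mul,
    form_eq sys (hP.mul hQ) (by rw [map_mul, hPa, hQb])]

theorem form_add {n : ℕ} {a b : A} (ha : a ∈ maximalIdeal A ^ n) (hb : b ∈ maximalIdeal A ^ n) :
    form sys n (a + b) = form sys n a + form sys n b := by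
  obtain ⟨P, hP, hPa⟩ := exists_rep sys ha
  obtain ⟨Q, hQ, hQb⟩ := exists_rep sys hb
  rw [form_eq sys hP hPa, form_eq sys hQ hQb, ← map_add,
    form_eq sys (hP.add hQ) (by rw [map_add, hPa, hQb])]

theorem form_zero_deg (a : A) : form sys 0 a = C (residue A a) := by
  rw [form_eq sys (isHomogeneous_C _ a) (eval_C a), map_C]

theorem form_x (i : Fin d) : form sys 1 (sys.x i) = X i := by
  rw [form_eq sys (isHomogeneous_X A i) (eval_X i), map_X]

theorem form_eq_zero_iff {n : ℕ} {a : A} (ha : a ∈ maximalIdeal A ^ n) :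
    form sys n a = 0 ↔ a ∈ maximalIdeal A ^ (n + 1) := by
  obtain ⟨P, hP, hPa⟩ := exists_rep sys ha
  rw [form_eq sys hP hPa]
  constructor
  · intro h
    rw [← hPa, pow_succ']
    refine eval_mem sys hP _ fun e => (residue_eq_zero_iff _).mp ?_
    rw [← coeff_map, h, coeff_zero]
  · intro h
    exact eq_zero_of_mem_succ sys hP (hPa ▸ h)

/-- `b` has order exactly `n`. -/
def Exact (n : ℕ) (b : A) : Prop := b ∈ maximalIdeal A ^ n ∧ b ∉ maximalIdeal A ^ (n + 1)

theorem exact_form_ne_zero {n : ℕ} {b : A} (h : Exact n b) : form sys n b ≠ 0 :=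
  fun e => h.2 ((form_eq_zero_iff sys h.1).mp e)

theorem Exact.ne_zero {n : ℕ} {b : A} (h : Exact n b) : b ≠ 0 :=
  fun e => h.2 (e ▸ Submodule.zero_mem _)

theorem exact_one : Exact 0 (1 : A) := by
  refine ⟨by simp, ?_⟩
  simp

include sys in
theorem exact_mul {n p : ℕ} {a b : A} (ha : Exact n a) (hb : Exact p b) : Exact (n + p) (a * b) := by
  have hab : a * b ∈ maximalIdeal A ^ (n + p) := pow_add (maximalIdeal A) n p ▸ Ideal.mul_mem_mul ha.1 hb.1
  refine ⟨hab, fun h => ?_⟩
  rw [← form_eq_zero_iff sys hab, form_mul sys ha.1 hb.1, mul_eq_zero] at h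
  exact h.elim (exact_form_ne_zero sys ha) (exact_form_ne_zero sys hb)

theorem exact_x (i : Fin d) : Exact 1 (sys.x i) := by
  have h : sys.x i ∈ maximalIdeal A ^ 1 := by
    rw [pow_one, ← sys.span_eq]; exact Ideal.subset_span ⟨i, rfl⟩
  refine ⟨h, fun e => ?_⟩
  rw [← form_eq_zero_iff sys h, form_x] at e
  exact X_ne_zero i e

include sys in
theorem noZeroDivisors : NoZeroDivisors A := ⟨fun {a b} h => by
  by_contra! hh
  obtain ⟨n, hn⟩ := sys.sep a hh.1
  obtain ⟨p, hp⟩ := sys.sep b hh.2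
  exact (exact_mul sys hn hp).ne_zero h⟩

include sys in
theorem isDomain : IsDomain A := by
  haveI := noZeroDivisors sys
  exact NoZeroDivisors.to_isDomain A

variable [IsDomain A]

local notation "K" => FractionRing A

/-- `z = a / b` with `b` of exact order `n` and `a` of order at least `n`. -/
def Rep (z : K) (n : ℕ) (a b : A) : Prop :=
  a ∈ maximalIdeal A ^ n ∧ Exact n b ∧ z * algebraMap A K b = algebraMap A K a

theorem rep_algebraMap (a : A) : Rep (algebraMap A K a) 0 a 1 :=
  ⟨by simp, exact_one, by simp⟩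

include sys in
theorem Rep.mul {z w : K} {n p : ℕ} {a b a' b' : A} (h : Rep z n a b) (h' : Rep w p a' b') :
    Rep (z * w) (n + p) (a * a') (b * b') :=
  ⟨pow_add (maximalIdeal A) n p ▸ Ideal.mul_mem_mul h.1 h'.1, exact_mul sys h.2.1 h'.2.1, by
    rw [map_mul, map_mul, ← h.2.2, ← h'.2.2]; ring⟩

include sys in
theorem Rep.add {z w : K} {n p : ℕ} {a b a' b' : A} (h : Rep z n a b) (h' : Rep w p a' b') :
    Rep (z + w) (n + p) (a * b' + b * a') (b * b') :=
  ⟨pow_add (maximalIdeal A) n p ▸ Ideal.add_mem _ (Ideal.mul_mem_mul h.1 h'.2.1.1)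
    (Ideal.mul_mem_mul h.2.1.1 h'.1), exact_mul sys h.2.1 h'.2.1, by
    rw [map_mul, map_add, map_mul, map_mul, ← h.2.2, ← h'.2.2]; ring⟩

/-- The valuation ring. -/
def V : Subalgebra A K where
  carrier := {z | ∃ n a b, Rep z n a b}
  mul_mem' := by rintro z w ⟨n, a, b, h⟩ ⟨p, a', b', h'⟩; exact ⟨_, _, _, h.mul sys h'⟩
  add_mem' := by rintro z w ⟨n, a, b, h⟩ ⟨p, a', b', h'⟩; exact ⟨_, _, _, h.add sys h'⟩
  algebraMap_mem' a := ⟨0, a, 1, rep_algebraMap a⟩

/-- The value of a representative. -/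
def val (n : ℕ) (a b : A) : F :=
  algebraMap S F (form sys n a) / algebraMap S F (form sys n b)

theorem val_eq {z : K} {n p : ℕ} {a b a' b' : A} (h : Rep z n a b) (h' : Rep z p a' b') :
    val sys n a b = val sys p a' b' := by
  have hinj := IsFractionRing.injective S F
  have e : a * b' = a' * b := by
    apply IsFractionRing.injective A K
    rw [map_mul, map_mul, ← h.2.2, ← h'.2.2]; ring
  have e' := congrArg (form sys (n + p)) e
  rw [form_mul sys h.1 h'.2.1.1, show n + p = p + n from add_comm n p,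
    form_mul sys h'.1 h.2.1.1] at e'
  rw [val, val, div_eq_div_iff
    ((map_ne_zero_iff _ hinj).mpr (exact_form_ne_zero sys h.2.1))
    ((map_ne_zero_iff _ hinj).mpr (exact_form_ne_zero sys h'.2.1)), ← map_mul, ← map_mul, e']

/-- The residue map of the valuation ring. -/
def resFun (z : V sys) : F :=
  val sys z.2.choose z.2.choose_spec.choose z.2.choose_spec.choose_spec.choose

theorem resFun_eq {z : V sys} {n : ℕ} {a b : A} (h : Rep (z : K) n a b) :
    resFun sys z = val sys n a b :=
  val_eq sys z.2.choose_spec.choose_spec.choose_spec h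

/-- The residue homomorphism of the valuation ring. -/
def res : V sys →+* F where
  toFun := resFun sys
  map_one' := by
    rw [resFun_eq sys (z := 1) (n := 0) (a := 1) (b := 1) (by simpa using rep_algebraMap (1 : A))]
    simp [val, form_zero_deg]
  map_mul' z w := by
    obtain ⟨n, a, b, h⟩ := z.2
    obtain ⟨p, a', b', h'⟩ := w.2
    rw [resFun_eq sys h, resFun_eq sys h', resFun_eq sys (z := z * w) (h.mul sys h'), val, val, val,
      form_mul sys h.1 h'.1, form_mul sys h.2.1.1 h'.2.1.1, map_mul, map_mul, div_mul_div_comm]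
  map_zero' := by
    rw [resFun_eq sys (z := 0) (n := 0) (a := 0) (b := 1) (by simpa using rep_algebraMap (0 : A))]
    simp [val, form_zero_deg]
  map_add' z w := by
    obtain ⟨n, a, b, h⟩ := z.2
    obtain ⟨p, a', b', h'⟩ := w.2
    have hinj := IsFractionRing.injective S F
    rw [resFun_eq sys h, resFun_eq sys h', resFun_eq sys (z := z + w) (h.add sys h'), val, val, val,
      form_add sys (pow_add (maximalIdeal A) n p ▸ Ideal.mul_mem_mul h.1 h'.2.1.1)
        (pow_add (maximalIdeal A) n p ▸ Ideal.mul_mem_mul h.2.1.1 h'.1),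
      form_mul sys h.1 h'.2.1.1, form_mul sys h.2.1.1 h'.1, form_mul sys h.2.1.1 h'.2.1.1,
      map_add, map_mul, map_mul, map_mul,
      div_add_div _ _ ((map_ne_zero_iff _ hinj).mpr (exact_form_ne_zero sys h.2.1))
        ((map_ne_zero_iff _ hinj).mpr (exact_form_ne_zero sys h'.2.1))]

theorem res_eq {z : V sys} {n : ℕ} {a b : A} (h : Rep (z : K) n a b) :
    res sys z = val sys n a b := resFun_eq sys h

theorem res_algebraMap (a : A) :
    res sys (algebraMap A (V sys) a) = algebraMap S F (C (residue A a)) := by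
  rw [res_eq sys (z := algebraMap A (V sys) a) (rep_algebraMap a), val, form_zero_deg, form_zero_deg]
  simp

theorem isUnit_iff (z : V sys) : IsUnit z ↔ res sys z ≠ 0 := by
  refine ⟨fun h => (h.map (res sys)).ne_zero, fun h => ?_⟩
  obtain ⟨n, a, b, hr⟩ := z.2
  rw [res_eq sys hr, val, div_ne_zero_iff] at h
  have ha : Exact n a :=
    ⟨hr.1, fun e => h.1 (by rw [(form_eq_zero_iff sys hr.1).mpr e, map_zero])⟩
  have ha0 : algebraMap A K a ≠ 0 := (map_ne_zero_iff _ (IsFractionRing.injective A K)).mpr ha.ne_zero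
  refine IsUnit.of_mul_eq_one ⟨algebraMap A K b / algebraMap A K a, n, b, a, hr.2.1.1, ha,
    div_mul_cancel₀ _ ha0⟩ (Subtype.ext ?_)
  show (z : K) * (algebraMap A K b / algebraMap A K a) = 1
  rw [← mul_div_assoc, hr.2.2, div_self ha0]

theorem isLocalRing_V : IsLocalRing (V sys) :=
  IsLocalRing.of_nonunits_add fun a b ha hb => by
    simp only [mem_nonunits_iff, isUnit_iff, ne_eq, not_not] at *
    rw [map_add, ha, hb, add_zero]

/-- The uniformizer. -/
def pi (i : Fin d) : V sys := algebraMap A (V sys) (sys.x i)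

theorem res_pi (i : Fin d) : res sys (pi sys i) = 0 := by
  rw [pi, res_algebraMap, (residue_eq_zero_iff _).mpr (sys.span_eq ▸ Ideal.subset_span ⟨i, rfl⟩)]
  simp

theorem exists_eq_pow_mul (i : Fin d) (z : V sys) (hz : z ≠ 0) :
    ∃ (m : ℕ) (w : V sys), IsUnit w ∧ pi sys i ^ m * w = z := by
  obtain ⟨n, a, b, hr⟩ := z.2
  have ha0 : a ≠ 0 := fun e => hz (Subtype.ext (by
    have := hr.2.2
    rw [e, map_zero, mul_eq_zero] at this
    exact this.resolve_right ((map_ne_zero_iff _ (IsFractionRing.injective A K)).mpr hr.2.1.ne_zero)))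
  obtain ⟨p, hp⟩ := sys.sep a ha0
  have hnp : n ≤ p := by
    by_contra! h
    exact hp.2 (Ideal.pow_le_pow_right h hr.1)
  obtain ⟨m, rfl⟩ := Nat.exists_eq_add_of_le hnp
  have hxm : ∀ j, Exact j (sys.x i ^ j) := fun j => by
    induction j with
    | zero => simpa using exact_one
    | succ j ih => rw [pow_succ]; exact exact_mul sys ih (exact_x sys i)
  have hb' := exact_mul sys hr.2.1 (hxm m)
  have hb0 : algebraMap A K (b * sys.x i ^ m) ≠ 0 :=
    (map_ne_zero_iff _ (IsFractionRing.injective A K)).mpr hb'.ne_zero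
  let w : V sys := ⟨algebraMap A K a / algebraMap A K (b * sys.x i ^ m), n + m, a, b * sys.x i ^ m,
    hp.1, hb', div_mul_cancel₀ _ hb0⟩
  refine ⟨m, w, ?_, Subtype.ext ?_⟩
  · rw [isUnit_iff, res_eq sys (z := w) (n := n + m) (a := a) (b := b * sys.x i ^ m)
      ⟨hp.1, hb', div_mul_cancel₀ _ hb0⟩, val, div_ne_zero_iff]
    exact ⟨(map_ne_zero_iff _ (IsFractionRing.injective S F)).mpr (exact_form_ne_zero sys hp),
      (map_ne_zero_iff _ (IsFractionRing.injective S F)).mpr (exact_form_ne_zero sys hb')⟩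
  · show algebraMap A K (sys.x i) ^ m * (algebraMap A K a / algebraMap A K (b * sys.x i ^ m)) = z
    rw [← mul_div_assoc, div_eq_iff hb0, map_mul, map_pow, ← mul_assoc, hr.2.2]
    ring

theorem isDiscreteValuationRing_V (i : Fin d) : IsDiscreteValuationRing (V sys) := by
  refine IsDiscreteValuationRing.ofHasUnitMulPowIrreducibleFactorization
    ⟨pi sys i, ⟨fun h => (isUnit_iff sys _).mp h (res_pi sys i), fun u v huv => ?_⟩, fun {z} hz => ?_⟩
  · by_contra! h
    have h0 : (pi sys i : V sys) ≠ 0 := fun e => (exact_x sys i).ne_zero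
      (IsFractionRing.injective A K ((congrArg Subtype.val e).trans (map_zero _).symm))
    obtain ⟨hu, hv⟩ := h
    have hu0 : u ≠ 0 := fun e => h0 (by rw [huv, e, zero_mul])
    have hv0 : v ≠ 0 := fun e => h0 (by rw [huv, e, mul_zero])
    obtain ⟨m, w, hw, rfl⟩ := exists_eq_pow_mul sys i u hu0
    obtain ⟨m', w', hw', rfl⟩ := exists_eq_pow_mul sys i v hv0
    obtain ⟨m, rfl⟩ : ∃ j, m = j + 1 := Nat.exists_eq_succ_of_ne_zero fun e => hu (by
      rwa [e, pow_zero, one_mul])
    obtain ⟨m', rfl⟩ : ∃ j, m' = j + 1 := Nat.exists_eq_succ_of_ne_zero fun e => hv (by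
      rwa [e, pow_zero, one_mul])
    have h1 : pi sys i * 1 = pi sys i * (pi sys i * (pi sys i ^ (m + m') * (w * w'))) := by
      rw [mul_one]; refine huv.trans ?_; ring
    have h2 := congrArg (res sys) (mul_left_cancel₀ h0 h1)
    rw [map_one, map_mul, res_pi, zero_mul] at h2
    exact one_ne_zero h2
  · obtain ⟨m, w, hw, rfl⟩ := exists_eq_pow_mul sys i z hz
    exact ⟨m, associated_mul_unit_right _ w hw⟩

end

end Groth.Agent.Ega43Dvr
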