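import Groth.Agent.Ega43Dvr.OrdVal

/-!
# The residue field of the order valuation is purely transcendental
-/

set_option autoImplicit false
set_option linter.style.haveILetI false
set_option linter.unusedSectionVars false

universe u

open MvPolynomial IsLocalRing

namespace Groth.Agent.Ega43Dvr

noncomputable section

theorem exists_sys (A : Type u) [CommRing A] [IsRegularLocalRing A] (hA : ¬ IsField A) :
    ∃ n : ℕ, Nonempty (Sys A (n + 1)) := by
  classical
  obtain ⟨rs, hreg, hrs⟩ := RegLoc6.exists_regularSequence_maximalIdeal A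
  have hlen : rs.length ≠ 0 := fun h => hA (by
    rw [IsLocalRing.isField_iff_maximalIdeal_eq, ← hrs, List.length_eq_zero_iff.mp h]
    simp)
  obtain ⟨n, hn⟩ := Nat.exists_eq_succ_of_ne_zero hlen
  let x : Fin (n + 1) → A := fun i => rs.get (i.cast hn.symm)
  have hx : List.ofFn x = rs := by
    apply List.ext_getElem
    · simp [hn]
    · intro i h1 h2
      rw [List.getElem_ofFn]
      rfl
  have hspan : Ideal.span (Set.range x) = maximalIdeal A := by
    rw [← hrs, ← hx, Ideal.ofList]
    congr 1
    ext y
    simp only [List.mem_ofFn, Set.mem_range, Set.mem_setOf_eq]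
  refine ⟨n, ⟨⟨x, hspan, fun a ha => ?_, fun m P hP h e => ?_⟩⟩⟩
  · have hex : ∃ m, a ∉ maximalIdeal A ^ m := by
      by_contra! h
      have : a ∈ ⨅ m, maximalIdeal A ^ m := Submodule.mem_iInf _ |>.mpr h
      rw [Ideal.iInf_pow_eq_bot_of_isLocalRing _ (maximalIdeal.isMaximal A).ne_top] at this
      exact ha this
    obtain ⟨m, hm⟩ : ∃ m, Nat.find hex = m + 1 :=
      Nat.exists_eq_succ_of_ne_zero fun e => Nat.find_spec hex (by rw [e]; simp)
    refine ⟨m, by_contra fun h => ?_, hm ▸ Nat.find_spec hex⟩
    have := Nat.find_min' hex h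
    omega
  · rw [← hspan] at h ⊢
    exact LinType.quasiRegular x (hx ▸ hreg.toIsWeaklyRegular) hP h e

variable {A : Type u} [CommRing A] [IsLocalRing A] [IsDomain A] {n : ℕ} (sys : Sys A (n + 1))

local notation "S" => MvPolynomial (Fin (n + 1)) (ResidueField A)
local notation "F" => FractionRing (MvPolynomial (Fin (n + 1)) (ResidueField A))

/-- The ratios of the variables. -/
def ratio (i : Fin n) : F := algebraMap S F (X i.succ) / algebraMap S F (X 0)

theorem algebraicIndependent_ratio :
    AlgebraicIndependent (ResidueField A) (ratio (A := A) (n := n)) := by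
  classical
  rw [algebraicIndependent_iff]
  intro p hp
  let N := p.totalDegree
  let H : S := ∑ e ∈ p.support, C (p.coeff e) * ((∏ i : Fin n, X i.succ ^ e i) * X 0 ^ (N - ∑ i, e i))
  have hX0 : algebraMap S F (X 0) ≠ 0 :=
    (map_ne_zero_iff _ (IsFractionRing.injective S F)).mpr (X_ne_zero _)
  have h1 : algebraMap S F H = algebraMap S F (X 0) ^ N * aeval (ratio (A := A) (n := n)) p := by
    rw [aeval_def, eval₂_eq', Finset.mul_sum, map_sum]
    refine Finset.sum_congr rfl fun e he => ?_
    rw [map_mul, map_mul, map_pow, map_prod, ← MvPolynomial.algebraMap_eq,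
      ← IsScalarTower.algebraMap_apply]
    simp only [map_pow, ratio, div_pow, Finset.prod_div_distrib, Finset.prod_pow_eq_pow_sum]
    have hle : ∑ i, e i ≤ N := by
      refine le_trans (le_of_eq ?_) (le_totalDegree he)
      rw [Finsupp.sum_fintype]; simp
    rw [pow_sub₀ _ hX0 hle]
    field_simp
  rw [hp, mul_zero, map_eq_zero_iff _ (IsFractionRing.injective S F)] at h1
  have h2 := congrArg (aeval (Fin.cases (1 : MvPolynomial (Fin n) (ResidueField A)) X :
    Fin (n + 1) → MvPolynomial (Fin n) (ResidueField A))) h1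
  simp only [H, map_sum, map_mul, map_pow, map_prod, aeval_X, aeval_C, Fin.cases_zero,
    Fin.cases_succ, one_pow, mul_one, map_zero] at h2
  rw [← h2]
  conv_lhs => rw [as_sum p]
  refine Finset.sum_congr rfl fun e _ => ?_
  rw [monomial_eq, Finsupp.prod_fintype _ _ (fun i => by simp), MvPolynomial.algebraMap_eq]

theorem div_mem_adjoin {m : ℕ} {P : S} (hP : P.IsHomogeneous m) :
    algebraMap S F P / algebraMap S F (X 0) ^ m ∈
      IntermediateField.adjoin (ResidueField A) (Set.range (ratio (A := A) (n := n))) := by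
  classical
  nth_rewrite 1 [as_sum P]
  rw [map_sum, Finset.sum_div]
  refine sum_mem fun e he => ?_
  have hdeg : ∑ i, e i = m := by
    have h := hP (mem_support_iff.mp he)
    rw [Finsupp.weight_apply, Finsupp.sum_fintype] at h
    · simpa using h
    · simp
  rw [monomial_eq, Finsupp.prod_fintype _ _ (fun i => by simp), map_mul, map_prod, ← hdeg,
    ← Finset.prod_pow_eq_pow_sum, mul_div_assoc, ← Finset.prod_div_distrib,
    ← MvPolynomial.algebraMap_eq, ← IsScalarTower.algebraMap_apply]
  refine mul_mem (IntermediateField.algebraMap_mem _ _) (prod_mem fun i _ => ?_)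
  rw [map_pow, ← div_pow]
  refine pow_mem ?_ _
  induction i using Fin.cases with
  | zero =>
    rw [div_self ((map_ne_zero_iff _ (IsFractionRing.injective S F)).mpr (X_ne_zero _))]
    exact one_mem _
  | succ i => exact IntermediateField.subset_adjoin _ _ ⟨i, rfl⟩

theorem exists_dvr_purelyTranscendental (A : Type u) [CommRing A] [IsRegularLocalRing A]
    (hA : ¬ IsField A) :
    ∃ (V : Subalgebra A (FractionRing A)) (_ : IsDomain V) (_ : IsDiscreteValuationRing V),
      IsFractionRing V (FractionRing A) ∧
      (IsLocalRing.maximalIdeal V).comap (algebraMap A V) = IsLocalRing.maximalIdeal A ∧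
      ∃ (φ : IsLocalRing.ResidueField A →+* IsLocalRing.ResidueField V),
        φ.comp (IsLocalRing.residue A) = (IsLocalRing.residue V).comp (algebraMap A V) ∧
        letI := φ.toAlgebra
        ∃ (ι : Type u) (t : ι → IsLocalRing.ResidueField V),
          AlgebraicIndependent (IsLocalRing.ResidueField A) t ∧
          IntermediateField.adjoin (IsLocalRing.ResidueField A) (Set.range t) = ⊤ := by
  obtain ⟨n, ⟨sys⟩⟩ := exists_sys A hA
  haveI := isDomain sys
  haveI hdvr := isDiscreteValuationRing_V sys 0
  refine ⟨V sys, inferInstance, hdvr, ?_, ?_, ?_⟩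
  · refine IsFractionRing.of_field _ _ fun z => ?_
    obtain ⟨a, b, hb, rfl⟩ := IsFractionRing.div_surjective (A := A) z
    exact ⟨algebraMap A (V sys) a, algebraMap A (V sys) b, rfl⟩
  · ext a
    rw [Ideal.mem_comap, mem_maximalIdeal, mem_nonunits_iff, isUnit_iff, ne_eq, not_not,
      res_algebraMap, map_eq_zero_iff _ (IsFractionRing.injective (MvPolynomial (Fin (n + 1)) (ResidueField A)) (FractionRing (MvPolynomial (Fin (n + 1)) (ResidueField A)))), C_eq_zero, residue_eq_zero_iff]
  have hloc : IsLocalHom (algebraMap A (V sys)) := ⟨fun a ha => by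
    rw [isUnit_iff, res_algebraMap, ne_eq, map_eq_zero_iff _ (IsFractionRing.injective (MvPolynomial (Fin (n + 1)) (ResidueField A)) (FractionRing (MvPolynomial (Fin (n + 1)) (ResidueField A)))),
      C_eq_zero, residue_eq_zero_iff, mem_maximalIdeal, mem_nonunits_iff, not_not] at ha
    exact ha⟩
  let φ := ResidueField.map (algebraMap A (V sys))
  refine ⟨φ, RingHom.ext fun a => rfl, ?_⟩
  letI := φ.toAlgebra
  haveI : IsLocalHom (res sys) := ⟨fun z hz => (isUnit_iff sys z).mpr hz.ne_zero⟩
  let jr : ResidueField (V sys) →+* (FractionRing (MvPolynomial (Fin (n + 1)) (ResidueField A))) := ResidueField.lift (res sys)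
  have hjr : ∀ z, jr (residue _ z) = res sys z := fun z => rfl
  have hφ : ∀ c, jr (φ c) = algebraMap (ResidueField A) (FractionRing (MvPolynomial (Fin (n + 1)) (ResidueField A))) c := by
    intro c
    obtain ⟨a, rfl⟩ := residue_surjective c
    show jr (residue _ (algebraMap A (V sys) a)) = _
    rw [hjr, res_algebraMap, IsScalarTower.algebraMap_apply (ResidueField A) (MvPolynomial (Fin (n + 1)) (ResidueField A)) (FractionRing (MvPolynomial (Fin (n + 1)) (ResidueField A))),
      MvPolynomial.algebraMap_eq]
  let j : ResidueField (V sys) →ₐ[ResidueField A] (FractionRing (MvPolynomial (Fin (n + 1)) (ResidueField A))) := { jr with commutes' := hφ }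
  have hx0 : algebraMap A (FractionRing A) (sys.x 0) ≠ 0 :=
    (map_ne_zero_iff _ (IsFractionRing.injective A _)).mpr (exact_x sys 0).ne_zero
  let t : ULift.{u} (Fin n) → ResidueField (V sys) := fun i => residue _
    ⟨algebraMap A (FractionRing A) (sys.x i.down.succ) / algebraMap A (FractionRing A) (sys.x 0),
      1, sys.x i.down.succ, sys.x 0, (exact_x sys _).1, exact_x sys 0, div_mul_cancel₀ _ hx0⟩
  have ht : j ∘ t = ratio ∘ ULift.down := by
    funext i
    show jr (residue _ _) = _
    rw [hjr, res_eq sys (n := 1) (a := sys.x i.down.succ) (b := sys.x 0)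
      ⟨(exact_x sys _).1, exact_x sys 0, div_mul_cancel₀ _ hx0⟩, val, form_x, form_x]
    rfl
  refine ⟨ULift.{u} (Fin n), t, AlgebraicIndependent.of_comp j ?_, eq_top_iff.mpr fun r _ => ?_⟩
  · rw [ht]
    exact algebraicIndependent_ratio.comp _ ULift.down_injective
  · have hr : j r ∈ (IntermediateField.adjoin (ResidueField A) (Set.range t)).map j := by
      rw [IntermediateField.adjoin_map, ← Set.range_comp, ht, Set.range_comp,
        ULift.down_surjective.range_eq, Set.image_univ]
      obtain ⟨z, rfl⟩ := residue_surjective r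
      obtain ⟨m, a, b, h⟩ := z.2
      show jr (residue _ z) ∈ _
      have hX0 : algebraMap (MvPolynomial (Fin (n + 1)) (ResidueField A)) (FractionRing (MvPolynomial (Fin (n + 1)) (ResidueField A))) (X 0) ^ m ≠ 0 :=
        pow_ne_zero _ ((map_ne_zero_iff _ (IsFractionRing.injective (MvPolynomial (Fin (n + 1)) (ResidueField A)) (FractionRing (MvPolynomial (Fin (n + 1)) (ResidueField A))))).mpr (X_ne_zero _))
      rw [hjr, res_eq sys h, val, ← div_div_div_cancel_right₀ hX0 (algebraMap (MvPolynomial (Fin (n + 1)) (ResidueField A)) (FractionRing (MvPolynomial (Fin (n + 1)) (ResidueField A))) (form sys m a))]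
      exact div_mem (div_mem_adjoin (form_homogeneous sys h.1))
        (div_mem_adjoin (form_homogeneous sys h.2.1.1))
    obtain ⟨r', hr', he⟩ := hr
    exact j.injective he ▸ hr'

end

end Groth.Agent.Ega43Dvr
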